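import Cfsg.Agent.NatSLTwo.Main
import Cfsg.Agent.NatSLTwo.AltEight
import Cfsg.Agent.Linear.SmallIsoEight

/-!
Semilinearity of the normaliser of the transvection group, and the case of the field of four elements.
-/

set_option autoImplicit false
set_option linter.style.haveILetI false
set_option linter.unusedSectionVars false

namespace Cfsg.Agent.NatSLTwo

open scoped MatrixGroups

/-- A map normalising a linear group that contains the transvections is semilinear. -/
theorem exists_semi {F : Type*} [Field F] [Finite F] {G : Type*} [Group G] [Finite G]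
    (ρ : G →* AddMonoid.End (F × F)) (K : Subgroup G)
    (hlin : ∀ x ∈ K, ∀ (c : F) v, ρ x (c • v) = c • ρ x v)
    (hup : ∀ t : F, ∃ g ∈ K, ∀ v : F × F, ρ g v = (v.1 + t * v.2, v.2))
    (hlow : ∀ t : F, ∃ g ∈ K, ∀ v : F × F, ρ g v = (v.1, v.2 + t * v.1))
    (g : G) (hg : ∀ x ∈ K, g⁻¹ * x * g ∈ K) : ∃ σ : F ≃+* F, IsSemi σ (ρ g) := by
  let T : F → F × F → F × F := fun c w => ρ g (c • ρ g⁻¹ w)
  have key : ∀ c : F, ∃ s : F, ∀ w, T c w = s • w := by
    intro c
    have hadd : ∀ v w, T c (v + w) = T c v + T c w := fun v w => by simp [T]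
    have hcomm : ∀ x ∈ K, ∀ w, ρ x (T c w) = T c (ρ x w) := by
      intro x hx w
      have e1 : x * g = g * (g⁻¹ * x * g) := by group
      have e2 : g⁻¹ * x * g * g⁻¹ = g⁻¹ * x := by group
      simp only [T]
      rw [← Data.map_mul_apply, e1, Data.map_mul_apply, hlin _ (hg x hx), ← Data.map_mul_apply ρ _ g⁻¹,
        e2, Data.map_mul_apply]
    have hU : ∀ t a b : F, T c (a + t * b, b) = ((T c (a, b)).1 + t * (T c (a, b)).2, (T c (a, b)).2) := by
      intro t a b
      obtain ⟨u, hu, hu'⟩ := hup t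
      have h := hcomm u hu (a, b)
      rw [hu', hu'] at h
      exact h.symm
    have hL : ∀ t a b : F, T c (a, b + t * a) = ((T c (a, b)).1, (T c (a, b)).2 + t * (T c (a, b)).1) := by
      intro t a b
      obtain ⟨u, hu, hu'⟩ := hlow t
      have h := hcomm u hu (a, b)
      rw [hu', hu'] at h
      exact h.symm
    have hax : ∀ a : F, (T c (a, 0)).2 = 0 := fun a => by
      have h := congrArg Prod.fst (hU 1 a 0)
      simp only [mul_zero, add_zero, one_mul] at h
      exact left_eq_add.1 h
    have hay : ∀ b : F, (T c (0, b)).1 = 0 := fun b => by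
      have h := congrArg Prod.snd (hL 1 0 b)
      simp only [mul_zero, add_zero, one_mul] at h
      exact left_eq_add.1 h
    have hab : ∀ t b : F, (T c (t * b, 0)).1 = t * (T c (0, b)).2 := by
      intro t b
      have h := congrArg Prod.fst (hU t 0 b)
      rw [zero_add, hay, zero_add, show ((t * b, b) : F × F) = (t * b, 0) + (0, b) by simp, hadd,
        Prod.fst_add, hay, add_zero] at h
      exact h
    refine ⟨(T c (1, 0)).1, fun w => ?_⟩
    have hy : ∀ b : F, (T c (0, b)).2 = (T c (b, 0)).1 := fun b => by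
      rw [← one_mul (T c (0, b)).2, ← hab, one_mul]
    have hx : ∀ a : F, (T c (a, 0)).1 = a * (T c (1, 0)).1 := fun a => by
      rw [← hy 1, ← hab, mul_one]
    obtain ⟨a, b⟩ := w
    rw [show ((a, b) : F × F) = (a, 0) + (0, b) by simp, hadd]
    ext
    · simp [hay, hx a, mul_comm]
    · simp [hax, hy b, hx b, mul_comm]
  choose σ hσ using key
  have hsemi : ∀ (c : F) v, ρ g (c • v) = σ c • ρ g v := fun c v => by
    rw [← hσ c (ρ g v)]
    simp only [T]
    rw [Data.map_inv_apply]
  have hne : ((1, 0) : F × F) ≠ 0 := by simp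
  have hinj : ∀ a b : F, a • ((1, 0) : F × F) = b • (1, 0) → a = b := fun a b h =>
    smul_left_injective F hne h
  let φ : F →+* F :=
    { toFun := σ
      map_one' := hinj _ _ (by rw [← hσ 1]; simp [T, Data.map_apply_inv])
      map_mul' := fun a b => hinj _ _ (by
        rw [← hσ (a * b), mul_smul (σ a), ← hσ b, ← hσ a]
        simp [T, Data.map_inv_apply, mul_smul])
      map_zero' := hinj _ _ (by rw [← hσ 0]; simp [T])
      map_add' := fun a b => hinj _ _ (by
        rw [← hσ (a + b), add_smul (σ a), ← hσ a, ← hσ b]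
        simp [T, add_smul]) }
  exact ⟨RingEquiv.ofBijective φ (Finite.injective_iff_bijective.1 φ.injective), hsemi⟩

/-- A special linear group with trivial centre is projective. -/
theorem sl_iso_psl {n : Type*} [Fintype n] [DecidableEq n] {R : Type*} [CommRing R]
    (h : ∀ r : R, r ^ Fintype.card n = 1 → r = 1) :
    Nonempty (Matrix.SpecialLinearGroup n R ≃* Matrix.ProjectiveSpecialLinearGroup n R) := by
  have hc : Subgroup.center (Matrix.SpecialLinearGroup n R) = ⊥ := by
    refine (Subgroup.eq_bot_iff_forall _).2 fun A hA => ?_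
    obtain ⟨r, hr, hrA⟩ := Matrix.SpecialLinearGroup.mem_center_iff.1 hA
    apply Subtype.ext
    rw [← hrA, h r hr, map_one]
    rfl
  exact ⟨((QuotientGroup.quotientMulEquivOfEq hc).trans QuotientGroup.quotientBot).symm⟩

/-- `SL₂(4)` is `A₅`. -/
theorem sl_two_four_iso {F : Type} [Field F] [Fintype F] [DecidableEq F] (hF : Fintype.card F = 4)
    [CharP F 2] : Nonempty (Matrix.SpecialLinearGroup (Fin 2) F ≃* alternatingGroup (Fin 5)) := by
  obtain ⟨e⟩ := sl_iso_psl (n := Fin 2) (R := F) fun r hr => by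
    rw [Fintype.card_fin, ← sub_eq_zero] at hr
    have h2 : (r - 1) ^ 2 = 0 := by
      linear_combination hr + (1 - r) * (CharTwo.two_eq_zero (R := F))
    exact sub_eq_zero.1 (pow_eq_zero_iff two_ne_zero |>.1 h2)
  exact (Linear.psl_two_four_iso hF).map e.trans

theorem zmod_two_eq_one : ∀ x : ZMod 2, x ≠ 0 → x = 1 := by decide

/-- The units of the endomorphisms of a group of order sixteen and exponent two embed into `A₈`. -/
theorem exists_emb_alt_eight {F : Type*} [Field F] [Finite F] [CharP F 2] (hF : Nat.card F = 4) :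
    ∃ Ψ : (AddMonoid.End (F × F))ˣ →* alternatingGroup (Fin 8), Function.Injective Ψ := by
  haveI : Fact (Nat.Prime 2) := ⟨Nat.prime_two⟩
  letI : Algebra (ZMod 2) F := ZMod.algebra F 2
  have hrank : Module.finrank (ZMod 2) (F × F) = 4 := by
    have h := Module.natCard_eq_pow_finrank (K := ZMod 2) (V := F × F)
    rw [Nat.card_prod, hF, Nat.card_zmod] at h
    exact (Nat.pow_right_injective le_rfl (show (2 : ℕ) ^ 4 = 2 ^ _ from h)).symm
  let b := Module.finBasisOfFinrankEq (ZMod 2) (F × F) hrank
  let E : AddMonoid.End (F × F) →* Module.End (ZMod 2) (F × F) :=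
    { toFun := fun f => AddMonoidHom.toZModLinearMap 2 f
      map_one' := LinearMap.ext fun _ => rfl
      map_mul' := fun _ _ => LinearMap.ext fun _ => rfl }
  let M : AddMonoid.End (F × F) →* Matrix (Fin 4) (Fin 4) (ZMod 2) :=
    (LinearMap.toMatrixAlgEquiv b).toAlgHom.toRingHom.toMonoidHom.comp E
  have hM : Function.Injective M := fun f g h => by
    have h' := (LinearMap.toMatrixAlgEquiv b).injective h
    exact DFunLike.ext _ _ fun v => LinearMap.congr_fun h' v
  have hdet : ∀ u : (AddMonoid.End (F × F))ˣ, (M u).det = 1 := fun u => by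
    have h := ((u.isUnit.map M).map (Matrix.detMonoidHom (n := Fin 4) (R := ZMod 2)))
    have hne : (M u).det ≠ 0 := h.ne_zero
    exact zmod_two_eq_one _ hne
  let S : (AddMonoid.End (F × F))ˣ →* SL(4, ZMod 2) :=
    { toFun := fun u => ⟨M u, hdet u⟩
      map_one' := Subtype.ext (map_one M)
      map_mul' := fun u v => Subtype.ext (map_mul M _ _) }
  obtain ⟨e⟩ := sl_iso_psl (n := Fin 4) (R := ZMod 2) (by decide)
  obtain ⟨e'⟩ := Linear.psl_four_two_zmod_iso
  refine ⟨(e.trans e').toMonoidHom.comp S, (e.trans e').injective.comp fun u v h => ?_⟩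
  exact Units.ext (hM (congrArg Subtype.val h))

namespace Data

variable {F : Type*} [Field F] [Finite F]
variable {G : Type*} [Group G] [Finite G] {ρ : G →* AddMonoid.End (F × F)}

/-- The field of four elements. -/
theorem four [CharP F 2] (hF : Nat.card F = 4) (hinj : Function.Injective ρ) (K : Subgroup G)
    (hlin : ∀ x ∈ K, ∀ (c : F) v, ρ x (c • v) = c • ρ x v)
    (hK : Nonempty (K ≃* alternatingGroup (Fin 5)))
    (hSyl : ∀ n : ℕ, 2 ^ n ∣ Nat.card G → 2 ^ n ∣ Nat.card (Subgroup.normalizer (K : Set G))) :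
    K.Normal ∨ Nonempty (G ≃* alternatingGroup (Fin 7)) := by
  classical
  obtain ⟨Ψ, hΨ⟩ := exists_emb_alt_eight (F := F) hF
  set f : G →* alternatingGroup (Fin 8) := Ψ.comp ρ.toHomUnits with hf
  have hfinj : Function.Injective f := hΨ.comp fun a b h => hinj (congrArg Units.val h)
  obtain ⟨ω, hω0, hω1⟩ : ∃ ω : F, ω ≠ 0 ∧ ω ≠ 1 := by
    haveI : Fintype F := Fintype.ofFinite F
    by_contra! h
    have h2 := Finset.card_le_card (fun x _ => Finset.mem_insert.2 ((em (x = 0)).imp_right
      fun hx => Finset.mem_singleton.2 (h x hx)) : (Finset.univ : Finset F) ⊆ {0, 1})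
    rw [Finset.card_univ, ← Nat.card_eq_fintype_card, hF, Finset.card_pair zero_ne_one] at h2
    omega
  let μ : Fˣ →* (AddMonoid.End (F × F))ˣ :=
    Units.map (Module.toAddMonoidEnd F (F × F)).toMonoidHom
  have hμ : Function.Injective μ := fun a b h => Units.ext <| by
    have h' := congrArg (fun u : (AddMonoid.End (F × F))ˣ => ((u : AddMonoid.End (F × F)) (1, 0)).1) h
    simpa using (show ((a : F) • ((1, 0) : F × F)).1 = ((b : F) • ((1, 0) : F × F)).1 from h')
  set c := Ψ (μ (Units.mk0 ω hω0)) with hc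
  have hc3 : orderOf c = 3 := by
    haveI : Fintype F := Fintype.ofFinite F
    rw [hc, orderOf_injective Ψ hΨ, orderOf_injective μ hμ]
    refine orderOf_eq_prime ?_ (fun h => hω1 (congrArg Units.val h))
    apply Units.ext
    have h := FiniteField.pow_card_sub_one_eq_one ω hω0
    rw [← Nat.card_eq_fintype_card, hF] at h
    exact h
  have hcl : ∀ l ∈ K.map f, c * l = l * c := by
    rintro _ ⟨x, hx, rfl⟩
    simp only [hc, hf, MonoidHom.comp_apply, ← map_mul]
    congr 1
    refine Units.ext (DFunLike.ext _ _ fun v => ?_)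
    exact (hlin x hx ω v).symm
  have hLK : Nonempty (↥(K.map f) ≃* alternatingGroup (Fin 5)) :=
    hK.map (K.equivMapOfInjective f hfinj).symm.trans
  have hnorm : (Subgroup.normalizer (K : Set G)).map f ≤
      f.range ⊓ Subgroup.normalizer ((K.map f : Subgroup _) : Set (alternatingGroup (Fin 8))) := by
    rintro _ ⟨g, hg, rfl⟩
    refine ⟨⟨g, rfl⟩, Subgroup.mem_normalizer_fintype ?_⟩
    rintro _ ⟨x, hx, rfl⟩
    exact ⟨g * x * g⁻¹, (Subgroup.mem_normalizer_iff.1 hg x).1 hx, by simp⟩
  rcases alt_seven_of_alt_eight f.range (K.map f) (Subgroup.map_le_range f K) hLK ⟨c, hc3, hcl⟩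
    (fun n hn => (hSyl n (by rwa [Nat.card_congr (MonoidHom.ofInjective hfinj).toEquiv])).trans
      (by
        rw [← Subgroup.card_map_of_injective hfinj]
        exact Subgroup.card_dvd_of_le hnorm)) with h | h'
  · left
    refine ⟨fun x hx g => ?_⟩
    obtain ⟨y, hy, hy'⟩ :=
      (Subgroup.mem_normalizer_iff.1 (h ⟨g, rfl⟩) (f x)).1 (Subgroup.mem_map_of_mem f hx)
    rw [← map_inv, ← map_mul, ← map_mul] at hy'
    exact hfinj hy' ▸ hy
  · exact Or.inr (h'.map (MonoidHom.ofInjective hfinj).trans)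

end Data

end Cfsg.Agent.NatSLTwo
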