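import Cfsg.Agent.NatSLTwo.Setting
import Cfsg.Agent.NatSLTwo.PGroup
import Cfsg.Agent.S0205

/-!
If the field does not have four elements, the conjugates of an upper transvection are transvections.
-/

set_option autoImplicit false
set_option linter.style.haveILetI false
set_option linter.unusedSectionVars false

namespace Cfsg.Agent.NatSLTwo

section Ring

variable {R : Type*} [Ring R]

/-- Normal form in the ring generated by two square-zero elements. -/
def TForm (a b : R) (x : Rˣ) : Prop :=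
  ∃ c₀ c₁ c₂ c₃ : R,
    ((Commute c₀ a ∧ Commute c₀ b) ∧ (Commute c₁ a ∧ Commute c₁ b) ∧
      (Commute c₂ a ∧ Commute c₂ b) ∧ (Commute c₃ a ∧ Commute c₃ b)) ∧
    (x : R) = c₀ + c₁ * a + c₂ * b + c₃ * (a * b) ∧
    ((x⁻¹ : Rˣ) : R) = c₀ - c₁ * a - c₂ * b + c₃ * (b * a)

theorem TForm.negA {a b : R} {x : Rˣ} (h : TForm a b x) : TForm (-a) b x := by
  obtain ⟨c₀, c₁, c₂, c₃, ⟨⟨h0a, h0b⟩, ⟨h1a, h1b⟩, ⟨h2a, h2b⟩, h3a, h3b⟩, hx, hxi⟩ := h
  refine ⟨c₀, -c₁, c₂, -c₃, ⟨⟨h0a.neg_right, h0b⟩, ⟨h1a.neg_left.neg_right, h1b.neg_left⟩,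
    ⟨h2a.neg_right, h2b⟩, h3a.neg_left.neg_right, h3b.neg_left⟩, ?_, ?_⟩
  · rw [hx]; noncomm_ring
  · rw [hxi]; noncomm_ring

theorem TForm.negB {a b : R} {x : Rˣ} (h : TForm a b x) : TForm a (-b) x := by
  obtain ⟨c₀, c₁, c₂, c₃, ⟨⟨h0a, h0b⟩, ⟨h1a, h1b⟩, ⟨h2a, h2b⟩, h3a, h3b⟩, hx, hxi⟩ := h
  refine ⟨c₀, c₁, -c₂, -c₃, ⟨⟨h0a, h0b.neg_right⟩, ⟨h1a, h1b.neg_right⟩,
    ⟨h2a.neg_left, h2b.neg_left.neg_right⟩, h3a.neg_left, h3b.neg_left.neg_right⟩, ?_, ?_⟩
  · rw [hx]; noncomm_ring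
  · rw [hxi]; noncomm_ring

theorem TForm.stepA {a b : R} (ha : a * a = 0) (hb : b * b = 0) {x u : Rˣ} (hu : (u : R) = 1 + a)
    (hui : ((u⁻¹ : Rˣ) : R) = 1 - a) (h : TForm a b x) : TForm a b (x * u) := by
  obtain ⟨c₀, c₁, c₂, c₃, ⟨⟨h0a, h0b⟩, ⟨h1a, h1b⟩, ⟨h2a, h2b⟩, h3a, h3b⟩, hx, hxi⟩ := h
  have hha : Commute (a * b + b * a) a := by
    change (a * b + b * a) * a = a * (a * b + b * a)
    rw [add_mul, mul_add, mul_assoc b, ha, mul_zero, add_zero, ← mul_assoc a a, ha, zero_mul,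
      zero_add, mul_assoc]
  have hhb : Commute (a * b + b * a) b := by
    change (a * b + b * a) * b = b * (a * b + b * a)
    rw [add_mul, mul_add, mul_assoc a, hb, mul_zero, zero_add, ← mul_assoc b b, hb, zero_mul,
      add_zero, mul_assoc]
  refine ⟨c₀ + c₂ * (a * b + b * a), c₁ + c₀ + c₃ * (a * b + b * a), c₂, c₃ - c₂,
    ⟨⟨h0a.add_left (h2a.mul_left hha), h0b.add_left (h2b.mul_left hhb)⟩,
      ⟨(h1a.add_left h0a).add_left (h3a.mul_left hha), (h1b.add_left h0b).add_left (h3b.mul_left hhb)⟩,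
      ⟨h2a, h2b⟩, h3a.sub_left h2a, h3b.sub_left h2b⟩, ?_, ?_⟩
  · rw [Units.val_mul, hx, hu, ← sub_eq_zero]
    calc (c₀ + c₁ * a + c₂ * b + c₃ * (a * b)) * (1 + a) -
          (c₀ + c₂ * (a * b + b * a) + (c₁ + c₀ + c₃ * (a * b + b * a)) * a + c₂ * b +
            (c₃ - c₂) * (a * b)) = c₁ * (a * a) - c₃ * (b * (a * a)) := by noncomm_ring
      _ = 0 := by rw [ha, mul_zero, mul_zero, mul_zero, sub_zero]
  · have e : a * (c₀ - c₁ * a - c₂ * b + c₃ * (b * a)) =
        c₀ * a - c₁ * (a * a) - c₂ * (a * b) + c₃ * (a * (b * a)) := by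
      rw [mul_add, mul_sub, mul_sub, ← h0a.eq, ← mul_assoc a c₁, ← h1a.eq, ← mul_assoc a c₂, ← h2a.eq,
        ← mul_assoc a c₃, ← h3a.eq]
      simp only [mul_assoc]
    rw [mul_inv_rev, Units.val_mul, hxi, hui, sub_mul, one_mul, e, ← sub_eq_zero]
    calc _ = c₁ * (a * a) + c₃ * (b * (a * a)) := by noncomm_ring
      _ = 0 := by rw [ha, mul_zero, mul_zero, mul_zero, add_zero]

theorem TForm.stepB {a b : R} (hb : b * b = 0) {x u : Rˣ} (hu : (u : R) = 1 + b)
    (hui : ((u⁻¹ : Rˣ) : R) = 1 - b) (h : TForm a b x) : TForm a b (x * u) := by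
  obtain ⟨c₀, c₁, c₂, c₃, ⟨⟨h0a, h0b⟩, ⟨h1a, h1b⟩, ⟨h2a, h2b⟩, h3a, h3b⟩, hx, hxi⟩ := h
  refine ⟨c₀, c₁, c₂ + c₀, c₃ + c₁,
    ⟨⟨h0a, h0b⟩, ⟨h1a, h1b⟩, ⟨h2a.add_left h0a, h2b.add_left h0b⟩, h3a.add_left h1a, h3b.add_left h1b⟩,
    ?_, ?_⟩
  · rw [Units.val_mul, hx, hu, ← sub_eq_zero]
    calc _ = c₂ * (b * b) + c₃ * (a * (b * b)) := by noncomm_ring
      _ = 0 := by rw [hb, mul_zero, mul_zero, mul_zero, add_zero]
  · have e : b * (c₀ - c₁ * a - c₂ * b + c₃ * (b * a)) =
        c₀ * b - c₁ * (b * a) - c₂ * (b * b) + c₃ * (b * b * a) := by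
      rw [mul_add, mul_sub, mul_sub, ← h0b.eq, ← mul_assoc b c₁, ← h1b.eq, ← mul_assoc b c₂, ← h2b.eq,
        ← mul_assoc b c₃, ← h3b.eq]
      simp only [mul_assoc]
    rw [mul_inv_rev, Units.val_mul, hxi, hui, sub_mul, one_mul, e, ← sub_eq_zero]
    calc _ = c₂ * (b * b) - c₃ * (b * b * a) := by noncomm_ring
      _ = 0 := by rw [hb, zero_mul, mul_zero, mul_zero, sub_zero]

/-- An involution in a group generated by two quadratic units is central. -/
theorem commute_of_involution {p : ℕ} [Fact p.Prime] (hp2 : p ≠ 2) (hR : (p : R) = 0) {u u' z : Rˣ}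
    (hu : Quad u) (hu' : Quad u') (hz : z ∈ Subgroup.closure ({u, u'} : Set Rˣ)) (hz2 : z * z = 1) :
    z * u = u * z := by
  set a : R := (u : R) - 1 with ha
  set b : R := (u' : R) - 1 with hb
  have hua : (u : R) = 1 + a := by rw [ha]; abel
  have hub : (u' : R) = 1 + b := by rw [hb]; abel
  have hform : TForm a b z := by
    clear hz2
    induction hz using Subgroup.closure_induction_right with
    | one => exact ⟨1, 0, 0, 0, by simp, by simp, by simp⟩
    | mul_right x hx y hy ih =>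
      rcases hy with rfl | hy
      · exact ih.stepA hu hu' hua hu.inv_val
      · cases hy; exact ih.stepB hu' hub hu'.inv_val
    | mul_inv_cancel x hx y hy ih =>
      rcases hy with rfl | hy
      · have h := (ih.negA).stepA (u := y⁻¹) (by rw [neg_mul_neg]; exact hu) hu'
          (by rw [hu.inv_val]; exact sub_eq_add_neg _ _) (by rw [inv_inv, hua, sub_neg_eq_add])
        simpa only [neg_neg] using h.negA
      · cases hy
        have h := (ih.negB).stepB (u := u'⁻¹) (by rw [neg_mul_neg]; exact hu')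
          (by rw [hu'.inv_val]; exact sub_eq_add_neg _ _) (by rw [inv_inv, hub, sub_neg_eq_add])
        simpa only [neg_neg] using h.negB
  obtain ⟨c₀, c₁, c₂, c₃, ⟨⟨h0a, h0b⟩, ⟨h1a, h1b⟩, ⟨h2a, h2b⟩, h3a, h3b⟩, hx, hxi⟩ := hform
  rw [inv_eq_of_mul_eq_one_right hz2] at hxi
  have ha2 : a * a = 0 := hu
  have hha : Commute (a * b + b * a) a := by
    change (a * b + b * a) * a = a * (a * b + b * a)
    rw [add_mul, mul_add, mul_assoc b, ha2, mul_zero, add_zero, ← mul_assoc a a, ha2, zero_mul,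
      zero_add, mul_assoc]
  have hzz : Commute ((z : R) + z) a := by
    have e : (z : R) + z = c₀ + c₀ + c₃ * (a * b + b * a) := by
      nth_rewrite 1 [hx]
      rw [hxi]; noncomm_ring
    rw [e]
    exact (h0a.add_left h0a).add_left (h3a.mul_left hha)
  have h0 : (z : R) * a - a * z = 0 := by
    apply eq_zero_of_two_mul hp2 hR
    have h := hzz.eq
    rw [add_mul, mul_add, ← sub_eq_zero] at h
    rw [← h]; abel
  apply Units.ext
  rw [Units.val_mul, Units.val_mul, hua, mul_add, add_mul, mul_one, one_mul, sub_eq_zero.1 h0]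

end Ring

/-- Two quadratic linear maps fixing a common non-zero vector commute. -/
theorem commute_linear {F : Type*} [Field F] {a b : AddMonoid.End (F × F)} {m : F × F} (hm : m ≠ 0)
    (la : ∀ (c : F) v, a (c • v) = c • a v) (lb : ∀ (c : F) v, b (c • v) = c • b v)
    (qa : ∀ v, a (a v) - a v - (a v - v) = 0) (qb : ∀ v, b (b v) - b v - (b v - v) = 0)
    (fa : a m = m) (fb : b m = m) (v : F × F) : a (b v) = b (a v) := by
  obtain ⟨n, hind, hspan⟩ : ∃ n : F × F, (∀ x y : F, x • m + y • n = 0 → y = 0) ∧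
      ∀ v : F × F, ∃ x y : F, v = x • m + y • n := by
    by_cases h1 : m.1 = 0
    · have h2 : m.2 ≠ 0 := fun h => hm (Prod.ext h1 h)
      refine ⟨(1, 0), fun x y h => by simpa [h1] using congrArg Prod.fst h,
        fun v => ⟨v.2 / m.2, v.1, ?_⟩⟩
      ext <;> simp [h1, h2]
    · refine ⟨(0, 1), fun x y h => ?_, fun v => ⟨v.1 / m.1, v.2 - v.1 / m.1 * m.2, ?_⟩⟩
      · have e1 := congrArg Prod.fst h
        have e2 := congrArg Prod.snd h
        simp at e1 e2
        rw [e1.resolve_right h1] at e2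
        simpa using e2
      · ext <;> simp [h1]
  have key : ∀ c : AddMonoid.End (F × F), (∀ (k : F) v, c (k • v) = k • c v) →
      (∀ v, c (c v) - c v - (c v - v) = 0) → c m = m →
        ∃ α : F, ∀ x y : F, c (x • m + y • n) = (x + y * α) • m + y • n := by
    intro c lc qc fc
    obtain ⟨α, δ, hδ⟩ := hspan (c n)
    have h := qc n
    rw [hδ, map_add, lc, lc, fc, hδ] at h
    have h' : ((δ - 1) * α) • m + ((δ - 1) * (δ - 1)) • n = 0 := by rw [← h]; module
    have hd : δ = 1 := sub_eq_zero.1 (mul_self_eq_zero.1 (hind _ _ h'))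
    refine ⟨α, fun x y => ?_⟩
    rw [map_add, lc, lc, fc, hδ, hd]; module
  obtain ⟨α, hα⟩ := key a la qa fa
  obtain ⟨β, hβ⟩ := key b lb qb fb
  obtain ⟨x, y, rfl⟩ := hspan v
  rw [hβ, hα, hα, hβ]; congr 2; ring

namespace Data

variable {p : ℕ} [hp : Fact p.Prime] {F : Type*} [Field F] [Finite F] [CharP F p]
variable {G : Type*} [Group G] [Finite G] {ρ : G →* AddMonoid.End (F × F)} (d : Data p F G ρ)

/-- The stabiliser of a vector. -/
def fixer (ρ : G →* AddMonoid.End (F × F)) (v : F × F) : Subgroup G where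
  carrier := {g | ρ g v = v}
  one_mem' := map_one_apply ρ v
  mul_mem' := fun {a b} ha hb => by
    change ρ (a * b) v = v
    rw [map_mul_apply, show ρ b v = v from hb, show ρ a v = v from ha]
  inv_mem' := fun {a} ha => by
    change ρ a⁻¹ v = v
    conv_lhs => rw [← show ρ a v = v from ha, map_inv_apply]

/-- Non-trivial on the first axis. -/
def NT (ρ : G →* AddMonoid.End (F × F)) (g : G) : Prop := ∃ x : F, ρ g (x, 0) ≠ (x, 0)

include d in
theorem pres_of_comm_e {z : G} {t : F} (ht : t ≠ 0) (hc : Commute z (d.e t)) : Pres ρ z := by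
  intro x
  have h := congrArg (fun k => ρ k (x, 0)) hc.eq
  simp only [map_mul_apply, d.e_apply, mul_zero, add_zero] at h
  have h1 := congrArg Prod.fst h
  have : t * (ρ z (x, 0)).2 = 0 := by simpa using h1.symm
  exact (mul_eq_zero.1 this).resolve_left ht

include d in
theorem inR_of_fix_comm {z : G} {r : F} (hr : r ≠ 0) (hfix : ¬ NT ρ z) (hc : Commute z (d.e r)) :
    InR ρ z := by
  have hfix' : ∀ x, ρ z (x, 0) = (x, 0) := by simpa [NT] using hfix
  refine ⟨hfix', fun v => ?_⟩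
  have h := congrArg (fun k => ρ k v) hc.eq
  simp only [map_mul_apply, d.e_apply] at h
  rw [show ((v.1 + r * v.2, v.2) : F × F) = v + (r * v.2, 0) by ext <;> simp, map_add, hfix'] at h
  have h1 := congrArg Prod.fst h
  simp only [Prod.fst_add] at h1
  exact (mul_left_cancel₀ hr (add_left_cancel h1)).symm

include d in
/-- A conjugate transvection fixing the axis pointwise comes from the stabiliser. -/
theorem pres_of_fix {g : G} {r : F} (hr : r ≠ 0) (hfix : ¬ NT ρ (g * d.e r * g⁻¹)) : Pres ρ g := by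
  have hfix' : ∀ x, ρ (g * d.e r * g⁻¹) (x, 0) = (x, 0) := by simpa [NT] using hfix
  have h : Pres ρ g⁻¹ := fun x => by
    have h := congrArg (ρ g⁻¹) (hfix' x)
    rw [map_mul_apply, map_mul_apply, map_inv_apply, d.e_apply] at h
    have h1 := congrArg Prod.fst h
    simp only [add_eq_left, mul_eq_zero] at h1
    exact h1.resolve_left hr
  simpa using h.inv

include d in
/-- The automorphism induced on the axis by an involution. -/
theorem exists_invol_aut {z : G} {w : F} (hw : w ≠ 0) (hz : Pres ρ z) (hfix : ρ z (w, 0) = (w, 0))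
    (hz2 : z * z = 1) (hnt : NT ρ z) :
    ∃ σ : F ≃+* F, (∀ x, σ (σ x) = x) ∧ (∃ x, σ x ≠ x) ∧ (∀ x, ρ z (x, 0) = (w * σ (x / w), 0)) ∧
      ∃ γ : F, ∀ t, Commute z (d.e t) → σ t = γ * t := by
  obtain ⟨σ, hσ, hγ⟩ := d.exists_aut hz hw hfix
  refine ⟨σ, fun x => ?_, ?_, hσ, hγ⟩
  · have h := map_mul_apply ρ z z (w * x, 0)
    rw [hz2, map_one_apply, hσ, hσ] at h
    have h1 := congrArg Prod.fst h
    simp only [mul_div_cancel_left₀ _ hw] at h1
    exact (mul_left_cancel₀ hw h1).symm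
  · by_contra! hall
    obtain ⟨x, hx⟩ := hnt
    exact hx (by rw [hσ, hall, mul_div_cancel₀ _ hw])

include d in
theorem mul_fix {z z' : G} {w : F} (hw : w ≠ 0) (hz : Pres ρ z) (hz' : Pres ρ z')
    (hf : ρ z (w, 0) = (w, 0)) (hf' : ρ z' (w, 0) = (w, 0)) (h2 : z * z = 1) (h2' : z' * z' = 1)
    (hn : NT ρ z) (hn' : NT ρ z') : ¬ NT ρ (z * z') := by
  obtain ⟨σ, hσσ, hσ1, hσ, -⟩ := d.exists_invol_aut hw hz hf h2 hn
  obtain ⟨τ, hττ, hτ1, hτ, -⟩ := d.exists_invol_aut hw hz' hf' h2' hn'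
  rintro ⟨x, hx⟩
  apply hx
  rw [map_mul_apply, hτ, hσ, mul_div_cancel_left₀ _ hw,
    ← ringAut_involution_unique hσσ hσ1 hττ hτ1, hσσ, mul_div_cancel₀ _ hw]

/-- An involution stabilising the configuration given by `g`, `r` and `w₀`. -/
structure Twin (g : G) (r w₀ : F) (z : G) : Prop where
  sq : z * z = 1
  comm : Commute z (g * d.e r * g⁻¹)
  fix : ρ z (w₀, 0) = (w₀, 0)
  pres : Pres ρ z
  nt : NT ρ z

theorem commute_conj {G : Type*} [Group G] {g z e : G} :
    Commute (g⁻¹ * z * g) e ↔ Commute z (g * e * g⁻¹) := by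
  constructor <;> intro h
  · have := h.map (MulAut.conj g).toMonoidHom
    simpa [mul_assoc] using this
  · have := h.map (MulAut.conj g⁻¹).toMonoidHom
    simpa [mul_assoc] using this

include d in
theorem twin_eq {g : G} {r w₀ w₁ : F} (hr : r ≠ 0) (hw0 : w₀ ≠ 0) (hw1 : w₁ ≠ 0)
    (hg : ρ g⁻¹ (w₀, 0) = (w₁, 0)) (hnp : ¬ Pres ρ g) {z z' : G} (hz : d.Twin g r w₀ z)
    (hz' : d.Twin g r w₀ z') (hcat : NT ρ (g⁻¹ * z * g) ↔ NT ρ (g⁻¹ * z' * g)) : z = z' := by
  have hgfix : ρ g (w₁, 0) = (w₀, 0) := by rw [← hg, map_apply_inv]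
  have side : ∀ y : G, d.Twin g r w₀ y → Pres ρ (g⁻¹ * y * g) ∧
      ρ (g⁻¹ * y * g) (w₁, 0) = (w₁, 0) ∧ (g⁻¹ * y * g) * (g⁻¹ * y * g) = 1 := fun y hy =>
    ⟨d.pres_of_comm_e hr (commute_conj.2 hy.comm),
      by rw [map_mul_apply, map_mul_apply, hgfix, hy.fix, hg],
      by rw [show g⁻¹ * y * g * (g⁻¹ * y * g) = g⁻¹ * (y * y) * g by group, hy.sq]; group⟩
  have h0 : ¬ NT ρ (g⁻¹ * (z * z') * g) := by
    rw [show g⁻¹ * (z * z') * g = (g⁻¹ * z * g) * (g⁻¹ * z' * g) by group]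
    by_cases hn : NT ρ (g⁻¹ * z * g)
    · exact d.mul_fix hw1 (side z hz).1 (side z' hz').1 (side z hz).2.1 (side z' hz').2.1
        (side z hz).2.2 (side z' hz').2.2 hn (hcat.1 hn)
    · have hn' := hcat.not.1 hn
      simp only [NT, not_exists, not_not] at hn hn' ⊢
      intro x; rw [map_mul_apply, hn', hn]
  have hc : Commute (g⁻¹ * (z * z') * g) (d.e r) :=
    commute_conj.2 (hz.comm.mul_left hz'.comm)
  obtain ⟨s, hs⟩ := d.exists_e_of_inR (d.inR_of_fix_comm hr h0 hc)
  have hzz : z * z' = g * d.e s * g⁻¹ := by rw [hs]; group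
  by_cases hs0 : s = 0
  · subst hs0
    rw [d.e_zero, mul_one, mul_inv_cancel] at hzz
    rw [eq_inv_of_mul_eq_one_left hzz, inv_eq_of_mul_eq_one_right hz'.sq]
  · exact absurd (d.pres_of_fix hs0 (hzz ▸ d.mul_fix hw0 hz.pres hz'.pres hz.fix hz'.fix hz.sq hz'.sq
      hz.nt hz'.nt)) hnp

theorem quad_toHomUnits {g : G} (h : ∀ v, ρ g (ρ g v) - ρ g v - (ρ g v - v) = 0) :
    Quad (ρ.toHomUnits g) := by
  unfold Quad
  ext v : 1
  change ρ g (ρ g v - v) - (ρ g v - v) = 0
  rw [map_sub]; exact h v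

include d in
theorem quad_e (t : F) (v : F × F) : ρ (d.e t) (ρ (d.e t) v) - ρ (d.e t) v - (ρ (d.e t) v - v) = 0 :=
  (d.e_inR t).quad v

theorem quad_conj {g h : G} (H : ∀ v, ρ h (ρ h v) - ρ h v - (ρ h v - v) = 0) (v : F × F) :
    ρ (g * h * g⁻¹) (ρ (g * h * g⁻¹) v) - ρ (g * h * g⁻¹) v - (ρ (g * h * g⁻¹) v - v) = 0 := by
  have h' := congrArg (ρ g) (H (ρ g⁻¹ v))
  simpa [map_mul_apply, map_apply_inv, map_inv_apply] using h'

include d in
theorem conj_e_fix {g : G} {w₀ w₁ : F} (hg : ρ g⁻¹ (w₀, 0) = (w₁, 0)) (r : F) :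
    ρ (g * d.e r * g⁻¹) (w₀, 0) = (w₀, 0) := by
  rw [map_mul_apply, map_mul_apply, hg, d.e_apply, mul_zero, add_zero, ← hg, map_apply_inv]

include d in
/-- The case of odd characteristic. -/
theorem pres_odd (hp2 : p ≠ 2) {g : G} {w₀ w₁ : F} (hw0 : w₀ ≠ 0) (hw1 : w₁ ≠ 0)
    (hg : ρ g⁻¹ (w₀, 0) = (w₁, 0)) : Pres ρ g := by
  by_contra hnp
  haveI : Finite (AddMonoid.End (F × F)) :=
    Finite.of_injective (fun f : AddMonoid.End (F × F) => (f : F × F → F × F)) DFunLike.coe_injective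
  set f := ρ.toHomUnits with hf
  have hfinj : Function.Injective f := fun a b h => d.inj (congrArg Units.val h)
  set u' := g * d.e 1 * g⁻¹ with hu'
  have hu'1 : ρ u' (w₀, 0) = (w₀, 0) := d.conj_e_fix hg 1
  have hR := end_natCast_eq_zero (p := p) (V := F × F) add_char_nsmul
  have hz : ∀ t : F, t ≠ 0 → ∃ z, d.Twin g 1 w₀ z ∧ NT ρ (g⁻¹ * z * g) ∧ Commute z (d.e t) := by
    intro t ht
    set X := Subgroup.closure ({d.e t, u'} : Set G) with hX
    have hXfix : X ≤ fixer ρ (w₀, 0) := by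
      refine (Subgroup.closure_le _).2 ?_
      rintro x (rfl | rfl)
      · change ρ (d.e t) (w₀, 0) = _; simp [d.e_apply]
      · exact hu'1
    rcases Nat.even_or_odd (Nat.card X) with heven | hodd
    · haveI : Fact (Nat.Prime 2) := ⟨Nat.prime_two⟩
      obtain ⟨z, hz⟩ := exists_prime_orderOf_dvd_card' (G := X) 2 heven.two_dvd
      have hz2 : (z : G) * z = 1 := by
        have h := congrArg Subtype.val (pow_orderOf_eq_one z)
        rw [hz] at h; simpa [pow_two] using h
      have hz1 : (z : G) ≠ 1 := fun h => by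
        rw [show z = 1 from Subtype.ext h, orderOf_one] at hz; omega
      have hmem : f z ∈ Subgroup.closure ({f (d.e t), f u'} : Set (AddMonoid.End (F × F))ˣ) := by
        have h := Subgroup.mem_map_of_mem f z.2
        rwa [MonoidHom.map_closure, Set.image_pair] at h
      have hq := quad_toHomUnits (ρ := ρ) (d.quad_e t)
      have hq' := quad_toHomUnits (ρ := ρ) (quad_conj (g := g) (d.quad_e 1))
      have hf2 : f z * f z = 1 := by rw [← map_mul, hz2, map_one]
      have c1 : Commute (z : G) (d.e t) := hfinj ((map_mul f _ _).trans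
        ((commute_of_involution hp2 hR hq hq' hmem hf2).trans (map_mul f _ _).symm))
      have c2 : Commute (z : G) u' := hfinj ((map_mul f _ _).trans
        ((commute_of_involution hp2 hR hq' hq (by rw [Set.pair_comm]; exact hmem) hf2).trans
          (map_mul f _ _).symm))
      have hzfix : ρ (z : G) (w₀, 0) = (w₀, 0) := hXfix z.2
      have noU : ∀ y : G, y * y = 1 → y ≠ 1 → ∀ r, r ≠ 0 → Commute y (d.e r) → NT ρ y := by
        intro y hy hy1 r hr hc
        by_contra hn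
        obtain ⟨s, hs⟩ := d.exists_e_of_inR (d.inR_of_fix_comm hr hn hc)
        rw [← hs, ← d.e_add, ← d.e_zero] at hy
        have h2 := d.e_injective hy
        haveI : NeZero (2 : F) := ⟨Ring.two_ne_zero (by rwa [ringChar.eq F p])⟩
        rw [← two_mul, mul_eq_zero] at h2
        rw [h2.resolve_left two_ne_zero, d.e_zero] at hs
        exact hy1 hs.symm
      refine ⟨z, ⟨hz2, c2, hzfix, d.pres_of_comm_e ht c1, noU _ hz2 hz1 t ht c1⟩, ?_, c1⟩
      refine noU _ ?_ ?_ 1 one_ne_zero (commute_conj.2 c2)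
      · rw [show g⁻¹ * (z : G) * g * (g⁻¹ * z * g) = g⁻¹ * ((z : G) * z) * g by group, hz2]; group
      · intro h
        exact hz1 (by rw [show (z : G) = g * (g⁻¹ * z * g) * g⁻¹ by group, h]; group)
    · exfalso
      haveI := Cfsg.Agent.S0205.result hodd
      have hXp : IsPGroup p X := by
        let fX : X →* (AddMonoid.End (F × F))ˣ := f.comp X.subtype
        have hY : fX.range = Subgroup.closure {f (d.e t), f u'} := by
          rw [MonoidHom.range_comp, Subgroup.range_subtype, hX, MonoidHom.map_closure, Set.image_pair]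
        have h := isPGroup_of_quad hp2 (V := F × F) add_char_nsmul fX.range
          (Group.isSolvable_of_surjective fX.rangeRestrict_surjective)
          (hodd.of_dvd_nat (Subgroup.card_range_dvd fX))
          (by
            rw [hY]
            refine Subgroup.closure_mono ?_
            rintro x (rfl | rfl)
            · exact ⟨Subgroup.subset_closure (Or.inl rfl), quad_toHomUnits (d.quad_e t)⟩
            · exact ⟨Subgroup.subset_closure (Or.inr rfl),
                quad_toHomUnits (quad_conj (d.quad_e 1))⟩)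
        intro x
        obtain ⟨k, hk⟩ := h ⟨fX x, x, rfl⟩
        refine ⟨k, Subtype.ext (hfinj ?_)⟩
        have := congrArg Subtype.val hk
        simpa [fX] using this
      obtain ⟨c, hc⟩ := d.exists_conj_semi hXp
      letI : MulAction X (F × F) :=
        { smul := fun a v => ρ (a : G) v
          one_smul := fun v => map_one_apply ρ v
          mul_smul := fun a b v => map_mul_apply ρ _ _ v }
      have hdvd : p ∣ Nat.card (F × F) := by
        have h1 : addOrderOf ((1, 0) : F × F) = p :=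
          addOrderOf_eq_prime (add_char_nsmul _) (by simp)
        exact h1 ▸ addOrderOf_dvd_natCard _
      obtain ⟨m, hm, hm0⟩ := hXp.exists_fixed_point_of_prime_dvd_card_of_fixed_point (F × F) hdvd
        (a := 0) (fun a => map_zero _)
      have hlin : ∀ x ∈ X, (∀ v, ρ x (ρ x v) - ρ x v - (ρ x v - v) = 0) →
          ∀ (k : F) v, ρ (c * x * c⁻¹) (k • v) = k • ρ (c * x * c⁻¹) v := by
        intro x hx hq k v
        obtain ⟨σ, hσ⟩ := hc x hx
        exact semi_quad_linear hp2 hσ (quad_conj hq) k v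
      have hcf : ∀ x ∈ X, ρ (c * x * c⁻¹) (ρ c m) = ρ c m := fun x hx => by
        rw [map_mul_apply, map_mul_apply, map_inv_apply, show ρ x m = m from hm ⟨x, hx⟩]
      have hcm : ρ c m ≠ 0 := fun h => hm0 (by
        have := congrArg (ρ c⁻¹) h
        rw [map_inv_apply, map_zero] at this; exact this.symm)
      have e1 : d.e t ∈ X := Subgroup.subset_closure (Or.inl rfl)
      have e2 : u' ∈ X := Subgroup.subset_closure (Or.inr rfl)
      have hcomm : Commute (c * u' * c⁻¹) (c * d.e t * c⁻¹) := d.ext fun v =>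
        (map_mul_apply ρ _ _ v).trans <| (commute_linear hcm (hlin _ e2 (quad_conj (d.quad_e 1)))
          (hlin _ e1 (d.quad_e t)) (quad_conj (quad_conj (d.quad_e 1))) (quad_conj (d.quad_e t))
          (hcf _ e2) (hcf _ e1) v).trans (map_mul_apply ρ _ _ v).symm
      have hcomm' : Commute u' (d.e t) := by
        have h := hcomm.map (MulAut.conj c⁻¹).toMonoidHom
        simpa [mul_assoc] using h
      have hpres : Pres ρ u' := d.pres_of_comm_e ht hcomm'
      obtain ⟨σ, hσ, -⟩ := d.exists_aut hpres hw0 hu'1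
      refine hnp (d.pres_of_fix one_ne_zero ?_)
      have hσ1 : ∀ y, σ (σ y) - 2 * σ y + y = 0 := by
        intro y
        have h := quad_conj (g := g) (d.quad_e 1) (w₀ * y, 0)
        rw [← hu', hσ, hσ] at h
        have h1 := congrArg Prod.fst h
        simp only [Prod.fst_sub, Prod.fst_zero, mul_div_cancel_left₀ _ hw0] at h1
        have h2 : w₀ * (σ (σ y) - 2 * σ y + y) = 0 := by linear_combination h1
        exact (mul_eq_zero.1 h2).resolve_left hw0
      rintro ⟨x, hx⟩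
      exact hx (by rw [← hu', hσ, ringAut_eq_of_quad (p := p) hp2 σ hσ1, mul_div_cancel₀ _ hw0])
  obtain ⟨z, hz1, hz1', -⟩ := hz 1 one_ne_zero
  obtain ⟨σ, -, ⟨x, hx⟩, -, γ, hγ⟩ := d.exists_invol_aut hw0 hz1.pres hz1.fix hz1.sq hz1.nt
  have hall : ∀ t : F, t ≠ 0 → σ t = γ * t := by
    intro t ht
    obtain ⟨y, hy, hy', hyc⟩ := hz t ht
    rw [d.twin_eq one_ne_zero hw0 hw1 hg hnp hy hz1 (iff_of_true hy' hz1')] at hyc
    exact hγ t hyc
  have hγ1 : γ = 1 := by simpa using (hall 1 one_ne_zero).symm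
  rcases eq_or_ne x 0 with rfl | hx0
  · exact hx (map_zero σ)
  · exact hx (by rw [hall x hx0, hγ1, one_mul])

include d in
theorem card_commuting {g : G} {r w₀ : F} (hw0 : w₀ ≠ 0) {z : G} (hz : d.Twin g r w₀ z) :
    ∃ k : ℕ, k ^ 2 ≤ Nat.card F ∧ {t : F | t ≠ 0 ∧ Commute z (d.e t)}.ncard < k := by
  obtain ⟨σ, -, hσ1, -, γ, hγ⟩ := d.exists_invol_aut hw0 hz.pres hz.fix hz.sq hz.nt
  refine ⟨_, card_fixed_sq_le σ hσ1, ?_⟩
  rcases Set.eq_empty_or_nonempty {t : F | t ≠ 0 ∧ Commute z (d.e t)} with he | ⟨t₀, ht0, hc0⟩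
  · rw [he, Set.ncard_empty]
    haveI : Nonempty {x : F // σ x = x} := ⟨⟨0, map_zero σ⟩⟩
    exact Nat.card_pos
  · have hsub : (fun t => t / t₀) '' {t : F | t ≠ 0 ∧ Commute z (d.e t)} ⊆
        {x : F | σ x = x} \ {0} := by
      rintro _ ⟨t, ⟨ht, hc⟩, rfl⟩
      refine ⟨?_, div_ne_zero ht ht0⟩
      have hγ0 : γ ≠ 0 := fun h => by
        have := hγ t₀ hc0
        rw [h, zero_mul] at this
        exact ht0 (by simpa using this)
      change σ (t / t₀) = t / t₀
      rw [map_div₀, hγ t hc, hγ t₀ hc0, mul_div_mul_left _ _ hγ0]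
    have h1 := Set.ncard_le_ncard hsub (Set.toFinite _)
    rw [Set.ncard_image_of_injective _ (fun a b h => by simpa [ht0, div_left_inj'] using h)] at h1
    exact h1.trans_lt ((Set.ncard_sdiff_singleton_lt_of_mem
      (show (0 : F) ∈ {x : F | σ x = x} from map_zero σ) (Set.toFinite _)).trans_eq
      (Nat.card_coe_set_eq _).symm)

include d in
/-- The case of characteristic two. -/
theorem pres_two (hp2 : p = 2) (hq4 : Nat.card F ≠ 4) {g : G} {w₀ w₁ : F} (hw0 : w₀ ≠ 0)
    (hw1 : w₁ ≠ 0) (hg : ρ g⁻¹ (w₀, 0) = (w₁, 0)) : Pres ρ g := by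
  classical
  by_contra hnp
  subst hp2
  haveI : Fintype F := Fintype.ofFinite F
  have hgfix : ρ g (w₁, 0) = (w₀, 0) := by rw [← hg, map_apply_inv]
  obtain ⟨n, -, hn⟩ := FiniteField.card F 2
  rw [← Nat.card_eq_fintype_card] at hn
  set q := Nat.card F with hqdef
  have hq : q = 8 ∨ 16 ≤ q := by
    have hne2 : q ≠ 2 := fun h2 => by
      apply hnp
      intro x
      obtain rfl | rfl : x = 0 ∨ x = w₁ := by
        by_contra! h
        have := Set.ncard_le_ncard (s := {0, w₁, x}) (t := (Set.univ : Set F)) (Set.subset_univ _)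
        rw [Set.ncard_eq_three.2 ⟨0, w₁, x, hw1.symm, h.1.symm, h.2.symm, rfl⟩, Set.ncard_univ] at this
        omega
      · simp [Prod.mk_zero_zero]
      · rw [hgfix]
    rcases lt_or_ge (n : ℕ) 4 with h | h
    · interval_cases hk : (n : ℕ) <;> simp_all
    · exact Or.inr (hn ▸ le_trans (by norm_num) (Nat.pow_le_pow_right two_pos h))
  have esq : ∀ t, d.e t * d.e t = 1 := fun t => by
    rw [← d.e_add, CharTwo.add_self_eq_zero, d.e_zero]
  -- choice of `r`
  obtain ⟨r, hr, hrp⟩ : ∃ r : F, r ≠ 0 ∧ ¬ Pres ρ (g * d.e r * g⁻¹) := by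
    by_contra! hall
    obtain ⟨s, hs⟩ : ∃ s : F, s ∉ ({0, 1} : Finset F) := by
      by_contra! h
      have := Finset.card_le_card (fun x _ => h x : (Finset.univ : Finset F) ⊆ {0, 1})
      rw [Finset.card_univ, Finset.card_pair zero_ne_one, ← Nat.card_eq_fintype_card, ← hqdef] at this
      omega
    simp only [Finset.mem_insert, Finset.mem_singleton, not_or] at hs
    have cs : ∀ a : F, (g * d.e a * g⁻¹) * (g * d.e a * g⁻¹) = 1 := fun a => by
      rw [show g * d.e a * g⁻¹ * (g * d.e a * g⁻¹) = g * (d.e a * d.e a) * g⁻¹ by group, esq]; group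
    have nt : ∀ a : F, a ≠ 0 → NT ρ (g * d.e a * g⁻¹) := fun a ha =>
      by_contra fun h => hnp (d.pres_of_fix ha h)
    have h := d.mul_fix hw0 (hall 1 one_ne_zero) (hall s hs.1) (d.conj_e_fix hg 1) (d.conj_e_fix hg s)
      (cs 1) (cs s) (nt 1 one_ne_zero) (nt s hs.1)
    rw [show g * d.e 1 * g⁻¹ * (g * d.e s * g⁻¹) = g * (d.e 1 * d.e s) * g⁻¹ by group, ← d.e_add] at h
    refine hnp (d.pres_of_fix ?_ h)
    intro h1
    exact hs.2 (CharTwo.add_eq_zero.1 h1).symm
  set u' := g * d.e r * g⁻¹ with hu'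
  have hu'1 : ρ u' (w₀, 0) = (w₀, 0) := d.conj_e_fix hg r
  have hu'2 : u' * u' = 1 := by
    rw [hu', show g * d.e r * g⁻¹ * (g * d.e r * g⁻¹) = g * (d.e r * d.e r) * g⁻¹ by group, esq]; group
  -- dichotomy for each transvection
  let B : Set F := {t | t ≠ 0 ∧ ∃ z, d.Twin g r w₀ z ∧ Commute z (d.e t)}
  let Bc : Prop → Set F := fun c =>
    {t | t ≠ 0 ∧ ∃ z, d.Twin g r w₀ z ∧ (NT ρ (g⁻¹ * z * g) ↔ c) ∧ Commute z (d.e t)}
  have hBc : ∀ c : Prop, ∃ k : ℕ, k ^ 2 ≤ q ∧ (Bc c).ncard < k := by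
    intro c
    rcases Set.eq_empty_or_nonempty (Bc c) with he | ⟨t₀, -, z, hz, hzc, -⟩
    · exact ⟨1, by rw [one_pow]; exact Nat.card_pos, by rw [he, Set.ncard_empty]; exact one_pos⟩
    · obtain ⟨k, hk, hlt⟩ := d.card_commuting hw0 hz
      refine ⟨k, hk, lt_of_le_of_lt (Set.ncard_le_ncard ?_ (Set.toFinite _)) hlt⟩
      rintro t ⟨ht, z', hz', hzc', hc⟩
      rw [d.twin_eq hr hw0 hw1 hg hnp hz' hz (hzc'.trans hzc.symm)] at hc
      exact ⟨ht, hc⟩
  have hB : B ⊆ Bc True ∪ Bc False := by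
    rintro t ⟨ht, z, hz, hc⟩
    by_cases hn : NT ρ (g⁻¹ * z * g)
    · exact Or.inl ⟨ht, z, hz, iff_true_intro hn, hc⟩
    · exact Or.inr ⟨ht, z, hz, iff_false_intro hn, hc⟩
  let φ : F →+ F := AddMonoidHom.mk' (fun a => (ρ g (a, 0)).2) fun a b => by
    rw [show ((a + b, 0) : F × F) = (a, 0) + (b, 0) by simp, map_add, Prod.snd_add]
  set y₀ := (ρ g (0, w₁ / r)).2 with hy0
  let Good : Set F := {t | t ≠ 0 ∧ w₀ / t - y₀ ∈ φ.range}
  have hsplit : ∀ t : F, t ≠ 0 → t ∈ B ∨ t ∈ Good := by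
    intro t ht
    set u := d.e t
    have hu1 : ρ u (w₀, 0) = (w₀, 0) := by simp [u, d.e_apply]
    set δ := u * u' with hδ
    have hsemi : SemiconjBy u δ δ⁻¹ := by
      change u * (u * u') = (u * u')⁻¹ * u
      rw [mul_inv_rev, inv_eq_of_mul_eq_one_right (esq t), inv_eq_of_mul_eq_one_right hu'2,
        ← mul_assoc, esq t, one_mul, mul_assoc, esq t, mul_one]
    have hflip : ∀ y ∈ Subgroup.zpowers δ, u * y = y⁻¹ * u := by
      rintro _ ⟨k, rfl⟩
      have h := (hsemi.zpow_right k).eq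
      rwa [inv_zpow] at h
    have hδfix : δ ∈ fixer ρ (w₀, 0) := (fixer ρ (w₀, 0)).mul_mem hu1 hu'1
    rcases Nat.even_or_odd (orderOf δ) with ⟨m, hm⟩ | hodd
    · left
      have hpos : 0 < orderOf δ := (isOfFinOrder_of_finite δ).orderOf_pos
      set z := δ ^ m with hzdef
      have hz2 : z * z = 1 := by rw [hzdef, ← pow_add, ← hm, pow_orderOf_eq_one]
      have hz1 : z ≠ 1 := fun h => by
        have := Nat.le_of_dvd (by omega) (orderOf_dvd_of_pow_eq_one h)
        omega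
      have hzu : Commute z u := by
        have h := hflip z (Subgroup.pow_mem _ (Subgroup.mem_zpowers δ) m)
        rw [inv_eq_of_mul_eq_one_right hz2] at h
        exact h.symm
      have hzu' : Commute z u' := by
        have h : Commute z δ := (Commute.self_pow δ m).symm
        have h' := (hzu.mul_right h)
        rwa [hδ, ← mul_assoc, esq t, one_mul] at h'
      refine ⟨ht, z, ⟨hz2, hzu', (fixer ρ (w₀, 0)).pow_mem hδfix m, d.pres_of_comm_e ht hzu, ?_⟩, hzu⟩
      by_contra hn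
      obtain ⟨s, hs⟩ := d.exists_e_of_inR (d.inR_of_fix_comm ht hn hzu)
      have hs0 : s ≠ 0 := fun h => hz1 (by rw [← hs, h, d.e_zero])
      exact hrp (d.pres_of_comm_e hs0 (hs ▸ hzu'.symm))
    · right
      refine ⟨ht, ?_⟩
      haveI : Fintype (Subgroup.zpowers δ) := Fintype.ofFinite _
      set v₀ : F × F := (0, w₀ / t) with hv₀
      have huv : ρ u v₀ = v₀ + (w₀, 0) := by
        ext <;> simp [u, v₀, d.e_apply, mul_div_cancel₀ _ ht]
      set x : F × F := ∑ y : Subgroup.zpowers δ, ρ (y : G) v₀ with hx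
      have hux : ρ u x = x + (w₀, 0) := by
        rw [hx, map_sum]
        have e : ∀ y : Subgroup.zpowers δ,
            ρ u (ρ (y : G) v₀) = ρ ((y⁻¹ : Subgroup.zpowers δ) : G) v₀ + (w₀, 0) := by
          intro y
          rw [← map_mul_apply, hflip y y.2, map_mul_apply, huv, map_add, Subgroup.coe_inv]
          congr 1
          exact ((fixer ρ (w₀, 0)).inv_mem ((Subgroup.zpowers_le.2 hδfix) y.2))
        rw [Finset.sum_congr rfl fun y _ => e y, Finset.sum_add_distrib,
          show ∑ y : Subgroup.zpowers δ, ρ ((y⁻¹ : Subgroup.zpowers δ) : G) v₀ =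
            ∑ y : Subgroup.zpowers δ, ρ (y : G) v₀ from
            Equiv.sum_comp (Equiv.inv (Subgroup.zpowers δ)) (fun y => ρ (y : G) v₀), Finset.sum_const,
          Finset.card_univ, ← Nat.card_eq_fintype_card, Nat.card_zpowers]
        congr 1
        obtain ⟨k, hk⟩ := hodd
        rw [hk, succ_nsmul, mul_nsmul, add_char_nsmul (p := 2), smul_zero, zero_add]
      have hδx : ρ δ x = x := by
        rw [hx, map_sum, Finset.sum_congr rfl fun (y : Subgroup.zpowers δ) _ =>
          (map_mul_apply ρ δ (y : G) v₀).symm]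
        exact Equiv.sum_comp (Equiv.mulLeft (⟨δ, Subgroup.mem_zpowers δ⟩ : Subgroup.zpowers δ))
          fun y => ρ (y : G) v₀
      have hu'x : ρ u' x = x + (w₀, 0) := by
        have h := congrArg (ρ u) hδx
        rw [hδ, map_mul_apply, ← map_mul_apply ρ u u, esq t, map_one_apply] at h
        rw [h, hux]
      have hx2 : x.2 = w₀ / t := by
        have h := congrArg Prod.fst hux
        simp only [u, d.e_apply, Prod.fst_add] at h
        rw [eq_div_iff ht]; linear_combination h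
      have h := congrArg (ρ g⁻¹) hu'x
      rw [map_add, hg, hu', map_mul_apply, map_mul_apply, map_inv_apply, d.e_apply] at h
      set y := ρ g⁻¹ x with hy
      have h1 := congrArg Prod.fst h
      simp only [Prod.fst_add, add_right_inj] at h1
      have hy2 : y.2 = w₁ / r := by rw [eq_div_iff hr, mul_comm]; exact h1
      refine ⟨y.1, ?_⟩
      have e : x = ρ g (y.1, 0) + ρ g (0, w₁ / r) := by
        rw [← map_add, ← hy2]; simp [y, map_apply_inv]
      rw [← hx2, e, Prod.snd_add, hy0]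
      simp [φ]
  -- counting
  have hker : 2 ≤ Nat.card φ.ker := by
    haveI : Nontrivial φ.ker := ⟨⟨0, ⟨w₁, by change (ρ g (w₁, 0)).2 = 0; rw [hgfix]⟩,
      fun h => hw1 (congrArg Subtype.val h).symm⟩⟩
    exact Finite.one_lt_card
  have hrange : Nat.card φ.range * 2 ≤ q := by
    rw [hqdef, AddSubgroup.card_eq_card_quotient_mul_card_addSubgroup φ.ker,
      Nat.card_congr (QuotientAddGroup.quotientKerEquivRange φ).toEquiv]
    exact Nat.mul_le_mul_left _ hker
  have hgood : Good.ncard ≤ Nat.card φ.range := by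
    rw [← Nat.card_coe_set_eq Good]
    refine Nat.card_le_card_of_injective (fun t => (⟨w₀ / t.1 - y₀, t.2.2⟩ : φ.range)) ?_
    intro a b h
    have h' := sub_left_injective (congrArg Subtype.val h)
    rw [div_eq_div_iff a.2.1 b.2.1] at h'
    exact Subtype.ext (mul_left_cancel₀ hw0 h').symm
  obtain ⟨k₁, hk1, hB1⟩ := hBc True
  obtain ⟨k₂, hk2, hB2⟩ := hBc False
  have huniv : (Set.univ : Set F) ⊆ {0} ∪ ((Bc True ∪ Bc False) ∪ Good) := by
    intro t _
    by_cases ht : t = 0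
    · exact Or.inl ht
    · rcases hsplit t ht with h | h
      · exact Or.inr (Or.inl (hB h))
      · exact Or.inr (Or.inr h)
  have hle := Set.ncard_le_ncard huniv (Set.toFinite _)
  rw [Set.ncard_univ, ← hqdef] at hle
  have h3 := Set.ncard_union_le ({0} : Set F) ((Bc True ∪ Bc False) ∪ Good)
  have h4 := Set.ncard_union_le (Bc True ∪ Bc False) Good
  have h5 := Set.ncard_union_le (Bc True) (Bc False)
  rw [Set.ncard_singleton] at h3
  rcases hq with h8 | h16
  · have key : ∀ k : ℕ, k ^ 2 ≤ q → k ≤ 2 := fun k hk => by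
      by_contra h
      have := Nat.pow_le_pow_left (show 3 ≤ k by omega) 2
      omega
    have := key k₁ hk1
    have := key k₂ hk2
    omega
  · have key : ∀ k : ℕ, k ^ 2 ≤ q → 4 * k ≤ q := fun k hk => by
      rcases le_or_gt k 4 with h | h
      · omega
      · exact (Nat.mul_le_mul_right k h.le).trans (le_of_eq_of_le (pow_two k).symm hk)
    have := key k₁ hk1
    have := key k₂ hk2
    omega

include d in
/-- An element mapping a point of the first axis into that axis stabilises it. -/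
theorem pres_of_axis (hq : Nat.card F ≠ 4) {g : G} {w₀ : F} (hw0 : w₀ ≠ 0)
    (h : (ρ g⁻¹ (w₀, 0)).2 = 0) : Pres ρ g := by
  have hg : ρ g⁻¹ (w₀, 0) = ((ρ g⁻¹ (w₀, 0)).1, 0) := Prod.ext rfl h
  have hw1 : (ρ g⁻¹ (w₀, 0)).1 ≠ 0 := fun e => by
    rw [e] at hg
    have := congrArg (ρ g) hg
    rw [map_apply_inv, Prod.mk_zero_zero, map_zero] at this
    exact hw0 (congrArg Prod.fst this)
  by_cases hp2 : p = 2
  · exact d.pres_two hp2 hq hw0 hw1 hg
  · exact d.pres_odd hp2 hw0 hw1 hg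

/-- The group generated by the transvections of both axes. -/
noncomputable def transGroup : Subgroup G :=
  Subgroup.closure (Set.range d.e ∪ Set.range fun t => (d.lower t).choose)

theorem e_mem (t : F) : d.e t ∈ d.transGroup := Subgroup.subset_closure (Or.inl ⟨t, rfl⟩)

/-- The lower transvection. -/
noncomputable def f (t : F) : G := (d.lower t).choose

theorem f_apply (t : F) (v : F × F) : ρ (d.f t) v = (v.1, v.2 + t * v.1) :=
  (d.lower t).choose_spec v

theorem f_mem (t : F) : d.f t ∈ d.transGroup := Subgroup.subset_closure (Or.inr ⟨t, rfl⟩)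

/-- The transvections generate a normal subgroup. -/
theorem transGroup_normal (hq : Nat.card F ≠ 4) : d.transGroup.Normal := by
  have hmove : ∀ m : F × F, m ≠ 0 → ∃ k ∈ d.transGroup, ρ k (1, 0) = m := by
    intro m hm
    by_cases h2 : m.2 = 0
    · have h1 : m.1 ≠ 0 := fun h => hm (Prod.ext h h2)
      refine ⟨d.f (-1 / m.1) * (d.e (m.1 - 1) * d.f 1),
        mul_mem (d.f_mem _) (mul_mem (d.e_mem _) (d.f_mem _)), ?_⟩
      rw [map_mul_apply, map_mul_apply, d.f_apply, d.e_apply, d.f_apply]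
      ext <;> simp [h2] <;> field_simp <;> ring
    · refine ⟨d.e ((m.1 - 1) / m.2) * d.f m.2, mul_mem (d.e_mem _) (d.f_mem _), ?_⟩
      rw [map_mul_apply, d.f_apply, d.e_apply]
      ext <;> simp [h2]
  have hup : ∀ (g : G) (s : F), g * d.e s * g⁻¹ ∈ d.transGroup := by
    intro g s
    have hm : ρ g (1, 0) ≠ 0 := fun h => by
      have := congrArg (ρ g⁻¹) h
      rw [map_inv_apply, map_zero] at this
      exact one_ne_zero (congrArg Prod.fst this)
    obtain ⟨k, hk, hk1⟩ := hmove _ hm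
    set h := k⁻¹ * g with hh
    have hfix : ρ h (1, 0) = (1, 0) := by rw [hh, map_mul_apply, ← hk1, map_inv_apply]
    have hp : Pres ρ h := d.pres_of_axis hq one_ne_zero (by
      conv_lhs => rw [← hfix, map_inv_apply])
    obtain ⟨t, ht⟩ := d.exists_conj_e hp s
    rw [show g * d.e s * g⁻¹ = k * (h * d.e s * h⁻¹) * k⁻¹ by rw [hh]; group, ht]
    exact mul_mem (mul_mem hk (d.e_mem t)) (inv_mem hk)
  have hlow : ∀ t : F, ∃ w ∈ d.transGroup, ∃ s, d.f t = w * d.e s * w⁻¹ := by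
    intro t
    set w := d.e 1 * (d.f (-1) * d.e 1) with hw
    refine ⟨w, mul_mem (d.e_mem _) (mul_mem (d.f_mem _) (d.e_mem _)), -t, ?_⟩
    have key : d.f t * w = w * d.e (-t) := d.ext fun v => by
      simp only [hw, map_mul_apply, d.e_apply, d.f_apply]
      ext <;> simp <;> ring
    exact eq_mul_inv_of_mul_eq key
  constructor
  intro n hn g
  revert g
  induction hn using Subgroup.closure_induction with
  | mem x hx =>
    intro g
    rcases hx with ⟨t, rfl⟩ | ⟨t, rfl⟩
    · exact hup g t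
    · obtain ⟨w, -, s, hws⟩ := hlow t
      change g * d.f t * g⁻¹ ∈ _
      rw [hws, show g * (w * d.e s * w⁻¹) * g⁻¹ = (g * w) * d.e s * (g * w)⁻¹ by group]
      exact hup _ _
  | one => intro g; simp
  | mul x y _ _ ix iy =>
    intro g
    rw [show g * (x * y) * g⁻¹ = g * x * g⁻¹ * (g * y * g⁻¹) by group]
    exact mul_mem (ix g) (iy g)
  | inv x _ ix =>
    intro g
    rw [show g * x⁻¹ * g⁻¹ = (g * x * g⁻¹)⁻¹ by group]
    exact inv_mem (ix g)

end Data

end Cfsg.Agent.NatSLTwo
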