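import Cfsg.Prelude.Def_Transfer
import Cfsg.Prelude.Def_LocalEven
import Cfsg.Agent.NatSLTwo.Bridge

/-!
The action of the normaliser of `V` on a natural module.
-/

set_option autoImplicit false
set_option linter.style.haveILetI false
set_option linter.unusedSectionVars false

namespace Cfsg.Agent.NatSLTwo

/-- Coordinates. -/
def pairEquiv (F : Type*) [AddCommGroup F] : (Fin 2 → F) ≃+ F × F where
  toFun v := (v 0, v 1)
  invFun v := ![v.1, v.2]
  left_inv v := funext (Fin.forall_fin_two.2 ⟨rfl, rfl⟩)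
  right_inv _ := rfl
  map_add' _ _ := rfl

/-- Conjugation, in coordinates. -/
theorem exists_action {X : Type*} [Group X] {F : Type*} [AddCommGroup F] (V G : Subgroup X)
    (hGV : G ≤ Subgroup.normalizer (V : Set X)) (ψ : Additive V ≃+ (Fin 2 → F)) :
    ∃ ρ : G →* AddMonoid.End (F × F), ∀ (g : G) (v w : V), (w : X) = (g : X) * v * (g : X)⁻¹ →
      ρ g (pairEquiv F (ψ (Additive.ofMul v))) = pairEquiv F (ψ (Additive.ofMul w)) := by
  let Φ : Additive V ≃+ F × F := ψ.trans (pairEquiv F)
  let cj : G → V → V := fun g v =>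
    ⟨(g : X) * v * (g : X)⁻¹, (Subgroup.mem_normalizer_iff.1 (hGV g.2) v).1 v.2⟩
  let ρf : G → AddMonoid.End (F × F) := fun g =>
    AddMonoidHom.mk' (fun u => Φ (Additive.ofMul (cj g (Additive.toMul (Φ.symm u))))) fun a b => by
      rw [← map_add Φ, ← ofMul_mul]
      congr 2
      apply Subtype.ext
      simp [cj]
  refine ⟨{ toFun := ρf, map_one' := ?_, map_mul' := fun g h => ?_ }, fun g v w hw => ?_⟩
  · refine AddMonoidHom.ext fun u => ?_
    change Φ (Additive.ofMul (cj 1 (Additive.toMul (Φ.symm u)))) = u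
    rw [show cj 1 (Additive.toMul (Φ.symm u)) = Additive.toMul (Φ.symm u) from
      Subtype.ext (by simp [cj]), ofMul_toMul, AddEquiv.apply_symm_apply]
  · refine AddMonoidHom.ext fun u => ?_
    change Φ (Additive.ofMul (cj (g * h) (Additive.toMul (Φ.symm u)))) =
      Φ (Additive.ofMul (cj g (Additive.toMul (Φ.symm
        (Φ (Additive.ofMul (cj h (Additive.toMul (Φ.symm u)))))))))
    rw [AddEquiv.symm_apply_apply]
    congr 2
    exact Subtype.ext (by simp [cj, mul_assoc])
  · change Φ (Additive.ofMul (cj g (Additive.toMul (Φ.symm (Φ (Additive.ofMul v)))))) =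
      Φ (Additive.ofMul w)
    rw [AddEquiv.symm_apply_apply, toMul_ofMul, show cj g v = w from Subtype.ext hw.symm]

/-- Coordinates of a matrix acting on column vectors. -/
theorem pair_mulVec {F : Type*} [CommRing F] (A : Matrix (Fin 2) (Fin 2) F) (v : Fin 2 → F) :
    pairEquiv F (A.mulVec v) = (A 0 0 * v 0 + A 0 1 * v 1, A 1 0 * v 0 + A 1 1 * v 1) := by
  change (A.mulVec v 0, A.mulVec v 1) = _
  simp [Matrix.mulVec, dotProduct, Fin.sum_univ_two]

/-- The statement with the module made explicit. -/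
theorem main {X : Type*} [Group X] [Finite X] {p : ℕ} [Fact p.Prime] (F : Type) [Field F] [Fintype F]
    [CharP F p] (V G L : Subgroup X) (hGV : G ≤ Subgroup.normalizer (V : Set X))
    (hfaith : G ⊓ Subgroup.centralizer (V : Set X) = ⊥) (hLG : L ≤ G)
    (hnat : Cfsg.IsNaturalSL2Module F V L)
    (hLiso : Nonempty (↥L ≃* Matrix.SpecialLinearGroup (Fin 2) F))
    (hSyl : ∀ S : Sylow p ↥(G ⊓ Subgroup.normalizer (L : Set X)), ∀ P : Sylow p ↥G,
      Nat.card S = Nat.card P) :
    (L.subgroupOf G).Normal ∨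
      (Fintype.card F = 4 ∧ Nonempty (↥G ≃* ↥(alternatingGroup (Fin 7)))) := by
  classical
  obtain ⟨-, ρ₀, ψ, hsurj, -, hact⟩ := hnat
  obtain ⟨ρ, hρ⟩ := exists_action V G hGV ψ
  -- every pair is a vector
  have hvec : ∀ u : F × F, ∃ v : V, pairEquiv F (ψ (Additive.ofMul v)) = u := fun u =>
    ⟨Additive.toMul (ψ.symm ((pairEquiv F).symm u)), by simp⟩
  have hconj : ∀ (g : G) (v : V), ∃ w : V, (w : X) = (g : X) * v * (g : X)⁻¹ := fun g v =>
    ⟨⟨_, (Subgroup.mem_normalizer_iff.1 (hGV g.2) v).1 v.2⟩, rfl⟩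
  have hinj : Function.Injective ρ := by
    refine (injective_iff_map_eq_one ρ).2 fun g hg => Subtype.ext ?_
    have hmem : (g : X) ∈ G ⊓ Subgroup.centralizer (V : Set X) := by
      refine ⟨g.2, fun x hx => ?_⟩
      obtain ⟨w, hw⟩ := hconj g ⟨x, hx⟩
      have h := hρ g ⟨x, hx⟩ w hw
      rw [hg] at h
      have h' : w = ⟨x, hx⟩ := Additive.ofMul.injective (ψ.injective ((pairEquiv F).injective h.symm))
      rw [h'] at hw
      change x * (g : X) = (g : X) * x
      calc x * (g : X) = (g : X) * x * (g : X)⁻¹ * g := by rw [← hw]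
        _ = (g : X) * x := by group
    rw [hfaith] at hmem
    exact Subgroup.mem_bot.1 hmem
  set K : Subgroup G := L.subgroupOf G with hKdef
  have hLact : ∀ (l : L) (u : F × F), ρ ⟨l, hLG l.2⟩ u =
      pairEquiv F ((ρ₀ l : Matrix (Fin 2) (Fin 2) F).mulVec ![u.1, u.2]) := by
    intro l u
    obtain ⟨v, rfl⟩ := hvec u
    obtain ⟨w, hw, hw'⟩ := hact l v
    rw [hρ ⟨l, hLG l.2⟩ v w hw, hw']
    congr 2
  have hlin : ∀ x ∈ K, ∀ (c : F) u, ρ x (c • u) = c • ρ x u := by
    intro x hx c u
    have h := fun u => hLact ⟨x, hx⟩ u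
    rw [h, h, pair_mulVec, pair_mulVec]
    ext <;> simp <;> ring
  have hsl : ∀ A : Matrix.SpecialLinearGroup (Fin 2) F, ∃ x ∈ K, ∀ u : F × F,
      ρ x u = pairEquiv F ((A : Matrix (Fin 2) (Fin 2) F).mulVec ![u.1, u.2]) := fun A => by
    obtain ⟨l, rfl⟩ := hsurj A
    exact ⟨⟨l, hLG l.2⟩, l.2, hLact l⟩
  have hup : ∀ t : F, ∃ x ∈ K, ∀ u : F × F, ρ x u = (u.1 + t * u.2, u.2) := fun t => by
    obtain ⟨x, hx, hxu⟩ := hsl ⟨!![1, t; 0, 1], by simp [Matrix.det_fin_two]⟩
    exact ⟨x, hx, fun u => by rw [hxu, pair_mulVec]; simp⟩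
  have hlow : ∀ t : F, ∃ x ∈ K, ∀ u : F × F, ρ x u = (u.1, u.2 + t * u.1) := fun t => by
    obtain ⟨x, hx, hxu⟩ := hsl ⟨!![1, 0; t, 1], by simp [Matrix.det_fin_two]⟩
    exact ⟨x, hx, fun u => by rw [hxu, pair_mulVec]; simp [add_comm]⟩
  -- a Sylow subgroup of `G` inside the normaliser
  obtain ⟨S⟩ : Nonempty (Sylow p ↥(G ⊓ Subgroup.normalizer (L : Set X))) := inferInstance
  obtain ⟨P⟩ : Nonempty (Sylow p ↥G) := inferInstance
  set S' : Subgroup G := (S : Subgroup ↥(G ⊓ Subgroup.normalizer (L : Set X))).map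
    (Subgroup.inclusion inf_le_left) with hS'
  have hS'card : Nat.card S' = Nat.card P := by
    rw [hS', Subgroup.card_map_of_injective (Subgroup.inclusion_injective _)]
    exact hSyl S P
  have hS'N : S' ≤ Subgroup.normalizer (K : Set G) := by
    rintro _ ⟨s, -, rfl⟩
    refine Subgroup.mem_normalizer_fintype fun x hx => ?_
    exact (Subgroup.mem_normalizer_iff.1 s.2.2 x).1 hx
  have hsylow : ∃ P : Sylow p G, ∀ g ∈ P, ∃ σ : F ≃+* F, IsSemi σ (ρ g) := by
    obtain ⟨Q, hQ⟩ := (S.isPGroup'.map (Subgroup.inclusion inf_le_left) :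
      IsPGroup p S').exists_le_sylow
    have hQS : S' = Q := Subgroup.eq_of_le_of_card_ge hQ (le_of_eq (by
      rw [hS'card]
      exact ((Sylow.card_eq_multiplicity Q).trans (Sylow.card_eq_multiplicity P).symm)))
    refine ⟨Q, fun g hg => ?_⟩
    have hg' : g ∈ Subgroup.normalizer (K : Set G) := hS'N (hQS ▸ hg)
    refine exists_semi ρ K hlin hup hlow g fun x hx => ?_
    have h := (Subgroup.mem_normalizer_iff.1 (inv_mem hg') x).1 hx
    rwa [inv_inv] at h
  by_cases h4 : Nat.card F = 4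
  · obtain ⟨n, hpp, hn⟩ := FiniteField.card F p
    rw [← Nat.card_eq_fintype_card, h4] at hn
    have hp2 : p = 2 := (Nat.prime_dvd_prime_iff_eq hpp Nat.prime_two).1
      (hpp.dvd_of_dvd_pow (show p ∣ 2 ^ 2 by rw [show (2 : ℕ) ^ 2 = 4 from rfl, hn]; exact dvd_pow_self _ n.ne_zero))
    subst hp2
    obtain ⟨eL⟩ := hLiso
    obtain ⟨e5⟩ := sl_two_four_iso (F := F) (by rw [← Nat.card_eq_fintype_card]; exact h4)
    have hK5 : Nonempty (K ≃* alternatingGroup (Fin 5)) :=
      ⟨(Subgroup.subgroupOfEquivOfLe hLG).trans (eL.trans e5)⟩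
    rcases Data.four (ρ := ρ) h4 hinj K hlin hK5 (fun m hm => by
        have h1 : 2 ^ m ∣ Nat.card P := by
          rw [Sylow.card_eq_multiplicity P]
          exact Nat.pow_dvd_pow 2 ((Nat.Prime.pow_dvd_iff_le_factorization Nat.prime_two
            Nat.card_pos.ne').1 hm)
        rw [← hS'card] at h1
        exact h1.trans (Subgroup.card_dvd_of_le hS'N)) with h | h
    · exact Or.inl h
    · exact Or.inr ⟨by rw [← Nat.card_eq_fintype_card]; exact h4, h⟩
  · left
    have d : Data p F G ρ := ⟨hinj, fun t => (hup t).imp fun _ h => h.2,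
      fun t => (hlow t).imp fun _ h => h.2, hsylow⟩
    have heq : d.transGroup = K := by
      apply le_antisymm
      · refine (Subgroup.closure_le K).2 ?_
        rintro x (⟨t, rfl⟩ | ⟨t, rfl⟩)
        · obtain ⟨y, hy, hyu⟩ := hup t
          rw [d.ext fun v => (d.e_apply t v).trans (hyu v).symm]
          exact hy
        · obtain ⟨y, hy, hyu⟩ := hlow t
          change d.f t ∈ K
          rw [d.ext fun v => (d.f_apply t v).trans (hyu v).symm]
          exact hy
      · intro x hx
        have key : ∀ A : Matrix.SpecialLinearGroup (Fin 2) F, ∃ y ∈ d.transGroup, ∀ u : F × F,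
            ρ y u = pairEquiv F ((A : Matrix (Fin 2) (Fin 2) F).mulVec ![u.1, u.2]) := by
          intro A
          induction A using Linear.transvection_induction with
          | htransvec i j hij c =>
            fin_cases i <;> fin_cases j
            · exact absurd rfl hij
            · refine ⟨d.e c, d.e_mem c, fun u => ?_⟩
              rw [d.e_apply, pair_mulVec]
              simp [Matrix.SpecialLinearGroup.transvection, Matrix.transvection]
            · refine ⟨d.f c, d.f_mem c, fun u => ?_⟩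
              rw [d.f_apply, pair_mulVec]
              simp [Matrix.SpecialLinearGroup.transvection, Matrix.transvection, add_comm]
            · exact absurd rfl hij
          | hmul A B hA hB =>
            obtain ⟨a, ha, hau⟩ := hA
            obtain ⟨b, hb, hbu⟩ := hB
            refine ⟨a * b, mul_mem ha hb, fun u => ?_⟩
            rw [Data.map_mul_apply, hbu, hau, Matrix.SpecialLinearGroup.coe_mul, ← Matrix.mulVec_mulVec]
            congr 2
        obtain ⟨y, hy, hyu⟩ := key (ρ₀ ⟨x, hx⟩)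
        have : y = x := d.ext fun u => (hyu u).trans (hLact ⟨x, hx⟩ u).symm
        exact this ▸ hy
    exact heq ▸ d.transGroup_normal h4

end Cfsg.Agent.NatSLTwo
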